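import Groth.Prelude.Def_FSch2
import Groth.Agent.SmLift.Main
import Groth.Agent.DefSchLib.Affine
import Groth.Agent.NilLift.Basic

/-!
Local formal lifting of morphisms between smooth schemes over a closed subscheme.
-/

set_option autoImplicit false

universe u

open CategoryTheory CategoryTheory.Limits AlgebraicGeometry

namespace Groth.Agent.SmFormalLift

/-- A smooth affine open over a closed subscheme lifts to a smooth affine scheme over the base. -/
theorem exists_affine_lift {S S₀ Y₀ : Scheme.{u}} (c : S₀ ⟶ S) [IsClosedImmersion c]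
    (b : Y₀ ⟶ S₀) [Smooth b] {W : S.Opens} (hW : IsAffineOpen W) {V : Y₀.Opens} (hV : IsAffineOpen V)
    (hVW : V ≤ b ⁻¹ᵁ c ⁻¹ᵁ W) :
    ∃ (B : CommRingCat.{u}) (rB : Γ(S, W) ⟶ B) (e : V.toScheme ⟶ Spec B), rB.hom.Smooth ∧
      IsPullback e (V.ι ≫ b) (Spec.map rB ≫ hW.fromSpec) c := by
  have hW₀ : IsAffineOpen (c ⁻¹ᵁ W) := hW.preimage c
  let g : Γ(S, W) ⟶ Γ(S₀, c ⁻¹ᵁ W) := c.app W
  have hg : Function.Surjective g.hom := c.app_surjective (U := W) hW
  let φ : Γ(S₀, c ⁻¹ᵁ W) ⟶ Γ(Y₀, V) := b.appLE _ V hVW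
  have hφ : φ.hom.Smooth := HasRingHomProperty.appLE @Smooth b inferInstance ⟨_, hW₀⟩ ⟨_, hV⟩ hVW
  let I : Ideal Γ(S, W) := RingHom.ker g.hom
  let eI := RingHom.quotientKerEquivOfSurjective (f := g.hom) hg
  letI : Algebra (Γ(S, W) ⧸ I) Γ(Y₀, V) := (φ.hom.comp eI.toRingHom).toAlgebra
  letI : Algebra Γ(S, W) Γ(Y₀, V) := (φ.hom.comp g.hom).toAlgebra
  haveI : IsScalarTower Γ(S, W) (Γ(S, W) ⧸ I) Γ(Y₀, V) := .of_algebraMap_eq' rfl
  haveI : Algebra.Smooth (Γ(S, W) ⧸ I) Γ(Y₀, V) :=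
    RingHom.smooth_algebraMap.1 (RingHom.Smooth.comp (RingHom.Smooth.of_bijective eI.bijective) hφ)
  obtain ⟨B, _, _, hB, π, hπ, hπker⟩ :=
    SmLift.exists_smooth_lift (A := Γ(S, W)) (I := I) (C := Γ(Y₀, V))
  let rB : Γ(S, W) ⟶ CommRingCat.of B := CommRingCat.ofHom (algebraMap Γ(S, W) B)
  let πc : CommRingCat.of B ⟶ Γ(Y₀, V) := CommRingCat.ofHom π.toRingHom
  have hw : rB ≫ πc = g ≫ φ := CommRingCat.hom_ext (RingHom.ext fun x => π.commutes x)
  have hpo : IsPushout rB g πc φ := DefSchLib.isPushout_of_surjective hw hg hπ hπker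
  have hsq₁ : IsPullback (Spec.map πc) (Spec.map φ) (Spec.map rB) (Spec.map g) :=
    isPullback_SpecMap_of_isPushout _ _ _ _ hpo
  have hsq₂ : IsPullback (Spec.map g) hW₀.fromSpec hW.fromSpec c := by
    refine (IsOpenImmersion.isPullback (Spec.map g) hW₀.fromSpec hW.fromSpec c ?_ ?_)
    · rw [show g = c.appLE W (c ⁻¹ᵁ W) le_rfl from Scheme.Hom.app_eq_appLE c]
      exact (IsAffineOpen.SpecMap_appLE_fromSpec c hW hW₀ le_rfl).symm
    · ext1
      simp [IsAffineOpen.range_fromSpec]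
  have hsq : IsPullback (Spec.map πc) (Spec.map φ ≫ hW₀.fromSpec) (Spec.map rB ≫ hW.fromSpec) c :=
    (IsPullback.paste_vert hsq₁ hsq₂)
  refine ⟨CommRingCat.of B, rB, hV.isoSpec.hom ≫ Spec.map πc, RingHom.smooth_algebraMap.2 hB, ?_⟩
  refine hsq.of_iso hV.isoSpec.symm (Iso.refl _) (Iso.refl _) (Iso.refl _) (by simp) ?_ (by simp) (by simp)
  simp [φ, IsAffineOpen.SpecMap_appLE_fromSpec b hW₀ hV hVW]

/-- Lifting a morphism to a smooth affine scheme along a thickening of affine schemes. -/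
theorem exists_lift {R B : CommRingCat.{u}} (rB : R ⟶ B) (hB : rB.hom.Smooth) [IsNoetherianRing R]
    {T T' : Scheme.{u}} (i : T ⟶ T') [IsClosedImmersion i] [Surjective i] [IsAffine T']
    (r : T' ⟶ Spec R) [LocallyOfFiniteType r] (φ : T ⟶ Spec B) (h : φ ≫ Spec.map rB = i ≫ r) :
    ∃ φ' : T' ⟶ Spec B, i ≫ φ' = φ ∧ φ' ≫ Spec.map rB = r := by
  haveI : IsAffine T := isAffine_of_isAffineHom i
  haveI : IsLocallyNoetherian T' := LocallyOfFiniteType.isLocallyNoetherian r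
  haveI : IsNoetherianRing Γ(T', ⊤) :=
    IsLocallyNoetherian.component_noetherian ⟨⊤, isAffineOpen_top T'⟩
  let r₁ : R ⟶ Γ(T', ⊤) := Spec.preimage (T'.isoSpec.inv ≫ r)
  let φ₁ : B ⟶ Γ(T, ⊤) := Spec.preimage (T.isoSpec.inv ≫ φ)
  have hnat : Spec.map i.appTop ≫ T'.isoSpec.inv = T.isoSpec.inv ≫ i :=
    Scheme.isoSpec_inv_naturality i
  have hsurj : Function.Surjective i.appTop.hom :=
    (IsClosedImmersion.isAffine_surjective_of_isAffine i).2
  have hcomm : rB ≫ φ₁ = r₁ ≫ i.appTop := by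
    apply Spec.map_injective
    rw [Spec.map_comp, Spec.map_comp, Spec.map_preimage, Spec.map_preimage, reassoc_of% hnat,
      Category.assoc, h]
  have hnil : IsNilpotent (RingHom.ker i.appTop.hom) := by
    have hle : RingHom.ker i.appTop.hom ≤ nilradical Γ(T', ⊤) := by
      refine NilLift.le_nilradical_of_surjective ?_
      let e := RingHom.quotientKerEquivOfSurjective (f := i.appTop.hom) hsurj
      have hfac : i.appTop = CommRingCat.ofHom (Ideal.Quotient.mk (RingHom.ker i.appTop.hom)) ≫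
          CommRingCat.ofHom e.toRingHom := rfl
      have hs : Function.Surjective (Spec.map i.appTop) := by
        intro y
        obtain ⟨z, hz⟩ := i.surjective (T'.isoSpec.inv y)
        refine ⟨T.isoSpec.hom z, T'.isoSpec.inv.homeomorph.injective ?_⟩
        show T'.isoSpec.inv (Spec.map i.appTop (T.isoSpec.hom z)) = T'.isoSpec.inv y
        rw [← Scheme.Hom.comp_apply, hnat, Scheme.Hom.comp_apply, ← hz]
        congr 1
        rw [← Scheme.Hom.comp_apply, Iso.hom_inv_id]; rfl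
      intro y
      obtain ⟨z, hz⟩ := hs y
      refine ⟨Spec.map (CommRingCat.ofHom e.toRingHom) z, ?_⟩
      rw [← Scheme.Hom.comp_apply, ← Spec.map_comp, ← hfac, hz]
    exact (Ideal.FG.isNilpotent_iff_le_nilradical (IsNoetherian.noetherian _)).2 hle
  algebraize [rB.hom, r₁.hom, i.appTop.hom.comp r₁.hom]
  let g : Γ(T', ⊤) →ₐ[R] Γ(T, ⊤) := { toRingHom := i.appTop.hom, commutes' := fun _ => rfl }
  let f : B →ₐ[R] Γ(T, ⊤) :=
    { toRingHom := φ₁.hom, commutes' := fun x => ConcreteCategory.congr_hom hcomm x }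
  haveI : Algebra.FormallySmooth R B := Algebra.Smooth.formallySmooth
  let l : B →ₐ[R] Γ(T', ⊤) := Algebra.FormallySmooth.liftOfSurjective f g hsurj hnil
  let lc : B ⟶ Γ(T', ⊤) := CommRingCat.ofHom l.toRingHom
  have hl : lc ≫ i.appTop = φ₁ := CommRingCat.hom_ext (RingHom.ext fun x =>
    Algebra.FormallySmooth.liftOfSurjective_apply f g hsurj hnil x)
  have hl' : rB ≫ lc = r₁ := CommRingCat.hom_ext (RingHom.ext fun x => l.commutes x)
  refine ⟨T'.isoSpec.hom ≫ Spec.map lc, ?_, ?_⟩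
  · rw [← Scheme.isoSpec_hom_naturality_assoc, ← Spec.map_comp, hl, Spec.map_preimage,
      Iso.hom_inv_id_assoc]
  · rw [Category.assoc, ← Spec.map_comp, hl', Spec.map_preimage, Iso.hom_inv_id_assoc]

theorem lft_of_isClosedImmersion {X Y : Scheme.{u}} (f : X ⟶ Y) (h : IsClosedImmersion f) :
    LocallyOfFiniteType f := inferInstance

section Sys

variable {S : Scheme.{u}} (𝒥 : S.IdealSheafData) {P : Scheme.{u}} (v : P ⟶ S)

instance (n : ℕ) : IsClosedImmersion (FSch.completionToX S 𝒥 n) :=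
  show IsClosedImmersion (X := (𝒥 ^ (n + 1)).subscheme) (𝒥 ^ (n + 1)).subschemeι from inferInstance

theorem range_toX (n : ℕ) : Set.range (FSch.completionToX S 𝒥 n) = (𝒥.support : Set S) :=
  ((𝒥 ^ (n + 1)).range_subschemeι).trans (by rw [Scheme.IdealSheafData.support_pow_succ])

theorem ι_toX (n : ℕ) :
    (FSch.completionAlong S 𝒥).ι n ≫ FSch.completionToX S 𝒥 (n + 1) = FSch.completionToX S 𝒥 n :=
  Scheme.IdealSheafData.inclusion_subschemeι _

theorem isClosedImmersion_ι (n : ℕ) : IsClosedImmersion ((FSch.completionAlong S 𝒥).ι n) := by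
  haveI : IsClosedImmersion ((FSch.completionAlong S 𝒥).ι n ≫ FSch.completionToX S 𝒥 (n + 1)) := by
    rw [ι_toX]; infer_instance
  exact IsClosedImmersion.of_comp _ (FSch.completionToX S 𝒥 (n + 1))

theorem surjective_ι (n : ℕ) : Surjective ((FSch.completionAlong S 𝒥).ι n) := by
  refine ⟨fun z => ?_⟩
  have hz : FSch.completionToX S 𝒥 (n + 1) z ∈ Set.range (FSch.completionToX S 𝒥 n) := by
    rw [range_toX, ← range_toX 𝒥 (n + 1)]; exact ⟨z, rfl⟩
  obtain ⟨w, hw⟩ := hz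
  refine ⟨w, (FSch.completionToX S 𝒥 (n + 1)).isClosedEmbedding.injective ?_⟩
  rw [← Scheme.Hom.comp_apply, ι_toX, hw]

/-- The system of the base changes of a scheme along a completion. -/
noncomputable def bcSys : FSch.Sys.{u} where
  X n := pullback v (FSch.completionToX S 𝒥 n)
  ι n := pullback.lift (pullback.fst _ _) (pullback.snd _ _ ≫ (FSch.completionAlong S 𝒥).ι n)
    (by rw [Category.assoc, ι_toX, pullback.condition])

/-- Its projection to the completion. -/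
noncomputable def bcHom : bcSys 𝒥 v ⟶ FSch.completionAlong S 𝒥 where
  app n := pullback.snd _ _
  comm n := (pullback.lift_snd _ _ _).symm

theorem bcHom_adic : FSch.IsAdicHom (bcHom 𝒥 v) := fun n => by
  refine (IsPullback.of_right ?_ (pullback.lift_snd _ _ _)
    (IsPullback.of_hasPullback v (FSch.completionToX S 𝒥 (n + 1))))
  have h := IsPullback.of_hasPullback v (FSch.completionToX S 𝒥 n)
  dsimp only [bcSys, bcHom]
  rw [pullback.lift_fst, ι_toX]
  exact h

@[simp] theorem bcSys_ι_fst (n : ℕ) : (bcSys 𝒥 v).ι n ≫ pullback.fst _ _ = pullback.fst _ _ :=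
  pullback.lift_fst _ _ _

theorem smooth_bcHom [Smooth v] (n : ℕ) : Smooth ((bcHom 𝒥 v : FSch.Hom _ _).app n) :=
  inferInstanceAs (Smooth (pullback.snd v _))

theorem bcSys_ι_isClosedImmersion (n : ℕ) : IsClosedImmersion ((bcSys 𝒥 v).ι n) :=
  MorphismProperty.of_isPullback (bcHom_adic 𝒥 v n).flip (isClosedImmersion_ι 𝒥 n)

theorem bcSys_ι_surjective (n : ℕ) : Surjective ((bcSys 𝒥 v).ι n) :=
  MorphismProperty.of_isPullback (bcHom_adic 𝒥 v n).flip (surjective_ι 𝒥 n)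

end Sys

/-- Compatible lifts to a smooth affine scheme on the base change system. -/
theorem exists_lifts {S : Scheme.{u}} (𝒥 : S.IdealSheafData) {R A B : CommRingCat.{u}}
    [IsNoetherianRing R] (w : Spec R ⟶ S) (rA : R ⟶ A) (rB : R ⟶ B) (hA : rA.hom.Smooth)
    (hB : rB.hom.Smooth)
    (φ₀ : (bcSys 𝒥 (Spec.map rA ≫ w)).X 0 ⟶ Spec B)
    (h₀ : φ₀ ≫ Spec.map rB = pullback.fst _ _ ≫ Spec.map rA) :
    ∃ Φ : bcSys 𝒥 (Spec.map rA ≫ w) ⟶ bcSys 𝒥 (Spec.map rB ≫ w),
      Φ ≫ bcHom 𝒥 _ = bcHom 𝒥 _ ∧ (Φ : FSch.Hom _ _).app 0 ≫ pullback.fst _ _ = φ₀ := by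
  haveI : LocallyOfFiniteType (Spec.map rA) :=
    (HasRingHomProperty.Spec_iff (P := @LocallyOfFiniteType)).2 (RingHom.FiniteType.of_finitePresentation hA.finitePresentation)
  let u := Spec.map rA ≫ w
  let U := bcSys 𝒥 u
  have step : ∀ n (φ : {φ : U.X n ⟶ Spec B // φ ≫ Spec.map rB = pullback.fst _ _ ≫ Spec.map rA}),
      ∃ ψ : {ψ : U.X (n + 1) ⟶ Spec B // ψ ≫ Spec.map rB = pullback.fst _ _ ≫ Spec.map rA},
        U.ι n ≫ ψ.1 = φ.1 := fun n φ => by
    haveI := bcSys_ι_isClosedImmersion 𝒥 u n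
    haveI := bcSys_ι_surjective 𝒥 u n
    have hc : IsClosedImmersion (pullback.fst u (FSch.completionToX S 𝒥 (n + 1))) :=
      MorphismProperty.pullback_fst _ _ inferInstance
    haveI : IsAffine (U.X (n + 1)) :=
      @isAffine_of_isAffineHom _ _ (pullback.fst u (FSch.completionToX S 𝒥 (n + 1)))
        (@IsClosedImmersion.instIsAffineHom _ _ _ hc) _
    let r : U.X (n + 1) ⟶ Spec R := pullback.fst u (FSch.completionToX S 𝒥 (n + 1)) ≫ Spec.map rA
    haveI : LocallyOfFiniteType r :=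
      MorphismProperty.comp_mem _ _ _ (lft_of_isClosedImmersion _ hc) ‹_›
    obtain ⟨ψ, h1, h2⟩ := exists_lift rB hB (U.ι n) r φ.1 (by
      simp only [r, U, bcSys, pullback.lift_fst_assoc]; exact φ.2)
    exact ⟨⟨ψ, h2⟩, h1⟩
  choose next hnext using step
  let f : ∀ n, {φ : U.X n ⟶ Spec B // φ ≫ Spec.map rB = pullback.fst _ _ ≫ Spec.map rA} :=
    fun n => Nat.rec ⟨φ₀, h₀⟩ (fun n φ => next n φ) n
  have hf : ∀ n, U.ι n ≫ (f (n + 1)).1 = (f n).1 := fun n => hnext n (f n)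
  let Φ : ∀ n, U.X n ⟶ (bcSys 𝒥 (Spec.map rB ≫ w)).X n := fun n =>
    pullback.lift (f n).1 (pullback.snd _ _)
      (by rw [reassoc_of% (f n).2]; exact (Category.assoc _ _ _).trans pullback.condition)
  refine ⟨⟨Φ, fun n => ?_⟩, FSch.Hom.ext (funext fun n => pullback.lift_snd _ _ _),
    pullback.lift_fst _ _ _⟩
  apply pullback.hom_ext
  · simp only [Category.assoc, bcSys, pullback.lift_fst, Φ]
    exact (pullback.lift_fst _ _ _).trans ((hf n).symm.trans
      (congrArg (U.ι n ≫ ·) (pullback.lift_fst _ _ _)).symm)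
  · refine (Category.assoc _ _ _).trans (Eq.trans ?_ (Category.assoc _ _ _).symm)
    exact ((congrArg (Φ n ≫ ·) (pullback.lift_snd _ _ _)).trans ((Category.assoc _ _ _).symm.trans
      (congrArg (· ≫ (FSch.completionAlong S 𝒥).ι n) (pullback.lift_snd _ _ _)))).trans
      ((congrArg (U.ι n ≫ ·) (pullback.lift_snd _ _ _)).trans (pullback.lift_snd _ _ _)).symm

end Groth.Agent.SmFormalLift
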